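import Groth.Agent.Lib.SerreP9.Field

/-! Perfect objects over a field: finitely many finite-dimensional cohomologies. -/

set_option autoImplicit false
set_option linter.unusedSectionVars false
set_option linter.style.haveILetI false
set_option backward.isDefEq.respectTransparency false
set_option backward.isDefEq.respectTransparency.types false
set_option maxHeartbeats 1600000

universe u

open CategoryTheory CategoryTheory.Limits AlgebraicGeometry CategoryTheory.Pretriangulated
open Groth.Agent.TwistBC9 (oneD)

attribute [local instance] HasDerivedCategory.standard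

namespace Groth.Agent.DbCohPn9

open SerreP9

attribute [local instance] SerreP9.selfOver

theorem isPerfect_isZero {X : Scheme.{u}} {K : DCoh.D X} (hK : IsZero K) : DCoh.IsPerfect K :=
  DGen9.isPerfect_of_iso ((isZero_zero (DCoh.D X)).iso hK)
    (DGen9.isPerfect_obj₃ (contractibleTriangle (TwistBC9.oneD X 0)) (contractible_distinguished _)
      (TwistBC9.isPerfect_oneD X) (TwistBC9.isPerfect_oneD X))

theorem isPerfect_biprod' {X : Scheme.{u}} {K L : DCoh.D X} (hK : DCoh.IsPerfect K) (hL : DCoh.IsPerfect L) :
    DCoh.IsPerfect (K ⊞ L) :=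
  DGen9.isPerfect_obj₂ (binaryBiproductTriangle K L) (binaryBiproductTriangle_distinguished K L) hK hL

/-- Finite coproducts of perfect objects are perfect. -/
theorem isPerfect_sigma_finite {X : Scheme.{u}} (ι : Type u) [Finite ι] :
    ∀ (L : ι → DCoh.D X) [HasCoproduct L], (∀ i, DCoh.IsPerfect (L i)) → DCoh.IsPerfect (∐ L) := by
  induction ι using Finite.induction_empty_option with
  | of_equiv e h =>
    intro L _ hL
    haveI := DPush.hasCoproduct_D (L ∘ e)
    exact DGen9.isPerfect_of_iso (Sigma.reindex e L) (h (L ∘ e) fun a => hL _)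
  | h_empty =>
    intro L _ _
    exact isPerfect_isZero (IsZero.iff_id_eq_zero _ |>.2 (Sigma.hom_ext _ _ fun i => i.elim))
  | h_option h =>
    intro L _ hL
    rename_i α _ _
    haveI := DPush.hasCoproduct_D fun a : α => L (some a)
    let t : (L none ⊞ ∐ fun a => L (some a)) ⟶ ∐ L :=
      biprod.desc (Sigma.ι L none) (Sigma.desc fun a => Sigma.ι L (some a))
    let s : (∐ L) ⟶ L none ⊞ ∐ fun a => L (some a) :=
      Sigma.desc fun o => match o with
        | none => biprod.inl
        | some a => Sigma.ι (fun a => L (some a)) a ≫ biprod.inr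
    refine DGen9.isPerfect_of_iso { hom := t, inv := s, hom_inv_id := ?_, inv_hom_id := ?_ }
      (isPerfect_biprod' (hL none) (h _ fun a => hL _))
    · refine biprod.hom_ext' _ _ ?_ (Sigma.hom_ext _ _ fun a => ?_)
      · simp [t, s]
      · simp [t, s]
    · refine Sigma.hom_ext _ _ fun o => ?_
      cases o <;> simp [t, s]

variable (k : Type u) [Field k]

local notation "SS" => Spec (CommRingCat.of k)

/-- Finitely many finite-dimensional cohomologies. -/
theorem isPerfect_of_finite {M : DCoh.D SS} (hM : DCoh.IsQCohD M)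
    (hf : ∀ i : ℤ, Module.Finite k (oneD SS 0 ⟶ M⟦i⟧))
    (hs : Set.Finite {i : ℤ | Nontrivial (oneD SS 0 ⟶ M⟦i⟧)}) : DCoh.IsPerfect M := by
  have e : ∀ i : ℤ, Nonempty ((oneD SS 0 ⟶ M⟦i⟧) ≃ₗ[k] (oneD SS i ⟶ M)) := fun i => by
    let t := ((DerivedCategory.singleFunctors (Spec (CommRingCat.of k)).Modules).shiftIso i 0 i (add_zero i)).app
      (Coh.structureModule SS)
    exact ⟨(Linear.homCongr k t.symm (Iso.refl (M⟦i⟧))).trans (LinearEquiv.ofBijective
      ((shiftFunctor (DCoh.D SS) i).mapLinearMap k)
      ((Functor.FullyFaithful.ofFullyFaithful (shiftFunctor (DCoh.D SS) i)).map_bijective _ _)).symm⟩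
  obtain ⟨ι, d, v, hc, b, hiso, -, hd⟩ := exists_decomposition k M hM
  haveI : Finite ι := by
    refine Set.finite_univ_iff.1 ((Set.Finite.biUnion hs (fun n _ => (hd n).1 ?_)).subset fun i _ => ?_)
    · obtain ⟨en⟩ := e n
      haveI := hf n
      exact Module.Finite.equiv en
    · refine Set.mem_biUnion (x := d i) ?_ rfl
      by_contra hn
      obtain ⟨en⟩ := e (d i)
      haveI := not_nontrivial_iff_subsingleton.1 hn
      exact (hd (d i)).2 en.symm.toEquiv.subsingleton i rfl
  exact DGen9.isPerfect_of_iso (asIso (Sigma.desc v)) (isPerfect_sigma_finite ι _ fun i =>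
    DGen9.isPerfect_of_iso (BC8.shiftOne SS (-d i) ≪≫ eqToIso (by rw [neg_neg]))
      (DGen9.isPerfect_shiftD (TwistBC9.isPerfect_oneD _) _))

end Groth.Agent.DbCohPn9
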