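import Groth.Agent.Lib.DbCohPn9.Below
import Groth.Agent.Lib.DbCohPn9.FinField
import Groth.Agent.Lib.SerreP9.Base
import Groth.Agent.Lib.PnKoszul9.PseudoCoh
import Groth.Agent.Lib.CohFound.ProjCech
import Groth.Agent.Lib.CohFound.ProjQuot
import Groth.Agent.Lib.ProjSpace.Basic

/-! Bounded coherent objects on projective space over a field through cohomology of twists. -/

set_option autoImplicit false
set_option linter.style.haveILetI false
set_option linter.unusedSectionVars false
set_option backward.isDefEq.respectTransparency false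
set_option backward.isDefEq.respectTransparency.types false
set_option maxHeartbeats 1600000

universe u

open CategoryTheory CategoryTheory.Limits AlgebraicGeometry CategoryTheory.Pretriangulated
open Groth.Agent.TwistBC9 (oneD)

attribute [local instance] HasDerivedCategory.standard
attribute [local instance] Groth.Agent.DBC9.hasRpush

namespace Groth.Agent.DbCohPn9

attribute [local instance] SerreP9.selfOver

section Proper

variable {k : Type u} [Field k] {X : Scheme.{u}} [X.Over (Spec (CommRingCat.of k))]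
  [IsProper (X ↘ Spec (CommRingCat.of k))]

local notation "ff" => (X ↘ Spec (CommRingCat.of k))
local notation "SS" => Spec (CommRingCat.of k)

/-- Cohomology through the base. -/
theorem nonempty_secShift [((DCoh.Rpush ff)).CommShift ℤ] (M : DCoh.D X) (i : ℤ) :
    Nonempty ((DCoh.inD X (Coh.structureModule X) ⟶ M⟦i⟧) ≃ₗ[k] (oneD SS 0 ⟶ ((DCoh.Rpush ff).obj M)⟦i⟧)) :=
  ⟨((Linear.homCongr k (SerreP9.oneIso X) (Iso.refl (M⟦i⟧))).trans (SerreP9.secEquiv (M⟦i⟧))).trans
    (Linear.homCongr k (Iso.refl _) (((DCoh.Rpush ff).commShiftIso i).app M))⟩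

/-- Bounded coherent objects have finite cohomology in finitely many degrees. -/
theorem finite_of_cohbP {M : DCoh.D X} (h : SGA6.cohbP X M) :
    (∀ i : ℤ, Module.Finite k (DCoh.inD X (Coh.structureModule X) ⟶ M⟦i⟧)) ∧
      Set.Finite {i : ℤ | Nontrivial (DCoh.inD X (Coh.structureModule X) ⟶ M⟦i⟧)} := by
  haveI : IsLocallyNoetherian X := LocallyOfFiniteType.isLocallyNoetherian ff
  haveI : CompactSpace X := QuasiCompact.compactSpace_of_compactSpace ff
  obtain ⟨hc, a, b, ha, hb⟩ := h
  haveI := ha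
  haveI := hb
  haveI : DerivedCategory.IsLE (DCoh.inD X (Coh.structureModule X)) 0 := inferInstance
  refine ⟨fun i => ?_, ?_⟩
  · haveI : (M⟦i⟧).IsGE (a - i) := DerivedCategory.TStructure.t.isGE_shift M a i (a - i) (by omega)
    exact ExtFin9.finite_hom k _ (M⟦i⟧) (fun j => by
      by_cases hj : j = 0
      · subst hj
        exact CohFound.isCoh_of_iso (((DerivedCategory.singleFunctorCompHomologyFunctorIso X.Modules 0).app _)).symm
          (M1.isCoh_structureModule X)
      · rcases lt_or_gt_of_ne hj with hj | hj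
        · exact DPerf.isCoh_of_isZero (DerivedCategory.isZero_of_isGE _ 0 j hj)
        · exact DPerf.isCoh_of_isZero (DerivedCategory.isZero_of_isLE _ 0 j hj)) 0
      (fun j => CohFound.isCoh_of_iso (((DerivedCategory.homologyFunctor X.Modules 0).shiftIso i j (i + j) rfl).app M).symm (hc (i + j))) (a - i)
  · obtain ⟨N, hN⟩ := DPush.exists_bound ff
    obtain ⟨cs, _⟩ := DPush.exists_commShift_isTriangulated ff
    letI := cs
    refine (Set.finite_Ioo (a - 1) (b + N)).subset fun i hi => ?_
    by_contra hni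
    have hz : Subsingleton (DCoh.inD X (Coh.structureModule X) ⟶ M⟦i⟧) := by
      simp only [Set.mem_Ioo, not_and_or, not_lt] at hni
      rcases hni with h1 | h1
      · haveI : (M⟦i⟧).IsGE (a - i) := DerivedCategory.TStructure.t.isGE_shift M a i (a - i) (by omega)
        exact ⟨fun f g => (DerivedCategory.TStructure.t.zero f 0 (a - i) (by omega)).trans
          (DerivedCategory.TStructure.t.zero g 0 (a - i) (by omega)).symm⟩
      · obtain ⟨e⟩ := nonempty_secShift (k := k) M i
        have hq : DCoh.IsQCohD ((DCoh.Rpush ff).obj M) := DPush.isQCohD_rpush ff M fun j => (hc j).1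
        have hz' : IsZero (DCoh.HD (((DCoh.Rpush ff).obj M)⟦i⟧) 0) :=
          (hN M (fun j => (hc j).1) b hb i h1).of_iso
            (((DerivedCategory.homologyFunctor _ 0).shiftIso i 0 i (add_zero i)).app _)
        haveI : Subsingleton (oneD SS 0 ⟶ ((DCoh.Rpush ff).obj M)⟦i⟧) :=
          ⟨fun f g => (PnKoszul9.hom_one_eq_zero (DMV.isQCohD_shift _ hq i) 0 hz' f).trans
            (PnKoszul9.hom_one_eq_zero (DMV.isQCohD_shift _ hq i) 0 hz' g).symm⟩
        exact e.toEquiv.subsingleton
    exact not_nontrivial_iff_subsingleton.2 hz hi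

/-- Finite cohomology in finitely many degrees makes the direct image perfect. -/
theorem isPerfect_rpush_of_finite {M : DCoh.D X} (hM : DCoh.IsQCohD M)
    (hf : ∀ i : ℤ, Module.Finite k (DCoh.inD X (Coh.structureModule X) ⟶ M⟦i⟧))
    (hs : Set.Finite {i : ℤ | Nontrivial (DCoh.inD X (Coh.structureModule X) ⟶ M⟦i⟧)}) :
    DCoh.IsPerfect ((DCoh.Rpush ff).obj M) := by
  obtain ⟨cs, _⟩ := DPush.exists_commShift_isTriangulated ff
  letI := cs
  refine isPerfect_of_finite k (DPush.isQCohD_rpush ff M hM) (fun i => ?_) (hs.subset fun i hi => ?_)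
  · obtain ⟨e⟩ := nonempty_secShift (k := k) M i
    haveI := hf i
    exact Module.Finite.equiv e
  · obtain ⟨e⟩ := nonempty_secShift (k := k) M i
    haveI : Nontrivial (oneD SS 0 ⟶ ((DCoh.Rpush ff).obj M)⟦i⟧) := hi
    exact e.toEquiv.nontrivial

end Proper

section Pn

variable (n : ℕ) (k : Type u) [Field k]

/-- `P^n_k` over `k`. -/
@[reducible] noncomputable def overPn : (CohB1.ProjSpace n k).Over (Spec (CommRingCat.of k)) :=
  ⟨CohB1.ProjSpace.toSpec n k⟩

attribute [local instance] overPn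

instance isProper_overPn : IsProper (CohB1.ProjSpace n k ↘ Spec (CommRingCat.of k)) :=
  inferInstanceAs (IsProper (CohB1.ProjSpace.toSpec n k))

local notation "PP" => CohB1.ProjSpace n k

theorem cohbP_tk {K : DCoh.D PP} (h : SGA6.cohbP PP K) (d : ℤ) :
    SGA6.cohbP PP ((PnKoszul9.tk (n := n) (A := k) d).obj K) := by
  obtain ⟨hc, a, b, ha, hb⟩ := h
  haveI : IsLocallyNoetherian PP := LocallyOfFiniteType.isLocallyNoetherian (PP ↘ Spec (CommRingCat.of k))
  let T := DCoh.tensorRightMod (_root_.Twist.twistProjSpace n k d)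
  let e := fun i : ℤ => (TwistBC9.hdMapIso T i).app K
  refine ⟨fun i => CohFound.isCoh_of_iso (e i).symm (CohFound.isCoh_tensor (hc i)
    (CohFound.isCoh_of_isFinLocFree (M2.isFinLocFree_of_isInvertible (Twist.isInvertible_twistProjSpace n k d)))), a, b,
    (DerivedCategory.isGE_iff _ _).2 fun i hi => (T.map_isZero ((DerivedCategory.isGE_iff _ _).1 ha i hi)).of_iso (e i),
    (DerivedCategory.isLE_iff _ _).2 fun i hi => (T.map_isZero ((DerivedCategory.isLE_iff _ _).1 hb i hi)).of_iso (e i)⟩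

/-- The criterion on `P^n_k`. -/
theorem cohbP_iff {K : DCoh.D PP} (hK : DCoh.IsQCohD K) :
    SGA6.cohbP PP K ↔ ∀ d : ℕ, d ≤ n →
      (∀ i : ℤ, Module.Finite k (DCoh.inD PP (Coh.structureModule PP) ⟶
          ((PnKoszul9.tk (n := n) (A := k) (d : ℤ)).obj K)⟦i⟧)) ∧
        Set.Finite {i : ℤ | Nontrivial (DCoh.inD PP (Coh.structureModule PP) ⟶
          ((PnKoszul9.tk (n := n) (A := k) (d : ℤ)).obj K)⟦i⟧)} := by
  refine ⟨fun h d _ => finite_of_cohbP (cohbP_tk n k h d), fun h => ?_⟩
  haveI : IsLocallyNoetherian PP := LocallyOfFiniteType.isLocallyNoetherian (PP ↘ Spec (CommRingCat.of k))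
  haveI : CompactSpace PP := QuasiCompact.compactSpace_of_compactSpace (PP ↘ Spec (CommRingCat.of k))
  have hp : ∀ d : ℕ, d ≤ n → DCoh.IsPerfect ((PnKoszul9.F (n := n) (A := k) (d : ℤ)).obj K) := fun d hd =>
    isPerfect_rpush_of_finite (X := PP) (PnKoszul9.isQCohD_tk (d : ℤ) hK) (h d hd).1 (h d hd).2
  have hpc : ∀ m, DCoh.IsPseudoCoherentD m K := fun m =>
    PnKoszul9.pc_of_F hK (fun d hd => DGen9.isPseudoCoherentD_of_isPerfect (hp d hd)) m
  obtain ⟨b, hb⟩ := DPerf.exists_isLE_of_pseudoCoherent (hpc 0)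
  obtain ⟨a, ha⟩ := exists_isGE hK fun d hd => by
    obtain ⟨w⟩ := PnKoszul9.nonempty_tk_one (n := n) (A := k) (d : ℤ) 0
    obtain ⟨B, hB⟩ := (h d hd).2.bddBelow
    haveI := PnKoszul9.isEquivalence_twD (_root_.Twist.twistProjSpace n k (d : ℤ))
      (Twist.isInvertible_twistProjSpace n k (d : ℤ))
    refine Filter.eventually_atBot.2 ⟨B - 1, fun t ht φ => ?_⟩
    have hz : Subsingleton (DCoh.inD PP (Coh.structureModule PP) ⟶
        ((PnKoszul9.tk (n := n) (A := k) (d : ℤ)).obj K)⟦t⟧) :=
      not_nontrivial_iff_subsingleton.1 fun hn => by have := hB hn; omega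
    let F := PnKoszul9.tk (n := n) (A := k) (d : ℤ)
    let tw := PnKoszul9.tw n k (-(d : ℤ))
    obtain ⟨ψ, hψ⟩ : ∃ ψ : tw ⟶ K⟦t⟧, (shiftFunctor _ (-t)).map ψ = φ ≫ ((shiftEquiv (DCoh.D PP) t).unitIso.app K).hom :=
      (shiftFunctor _ (-t)).map_surjective (φ ≫ ((shiftEquiv (DCoh.D PP) t).unitIso.app K).hom) |> fun ⟨x, hx⟩ => ⟨x, hx⟩
    have h0 : ψ = 0 := by
      apply F.map_injective
      rw [Functor.map_zero, ← cancel_epi w.inv, ← cancel_mono ((F.commShiftIso t).hom.app K), comp_zero, zero_comp]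
      exact @Subsingleton.elim _ hz _ _
    rw [h0, Functor.map_zero] at hψ
    exact (cancel_mono _).1 (hψ.symm.trans zero_comp.symm)
  exact ⟨fun i => DPerf.isCoh_HD_of_pseudoCoherent (hpc i) (hK i) le_rfl, a, b, ha, hb⟩

end Pn

end Groth.Agent.DbCohPn9
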