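import Groth.Agent.Lib.PnKoszul9.TwistD
import Groth.Agent.Lib.CohMop.IsoTransport
import Groth.Agent.Lib.DPerf.Top
import Groth.Agent.Lib.DPerf.Noeth
import Groth.Agent.Lib.DGen9.Basics
import Groth.Agent.Lib.DKill9.Linear
import Groth.Agent.Lib.PicPn.OverPoint
import Groth.Agent.Lib.Twist.ProjSpace
import Groth.Prelude.Def_SGA6

/-! Twists and bounded coherent objects along isomorphisms. -/

set_option autoImplicit false
set_option linter.style.haveILetI false
set_option linter.unusedSectionVars false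
set_option backward.isDefEq.respectTransparency false
set_option backward.isDefEq.respectTransparency.types false
set_option maxHeartbeats 800000

universe w w' v v' u

open CategoryTheory CategoryTheory.Limits AlgebraicGeometry

attribute [local instance] HasDerivedCategory.standard

namespace Groth.Agent.DbCohPn9

section Square

variable {A : Type (u+1)} [Category.{u} A] [Abelian A] {B : Type (u+1)} [Category.{u} B] [Abelian B]
  (F : A ⥤ A) (G : B ⥤ B) (R : A ⥤ B) [F.Additive] [G.Additive] [R.Additive]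
  [PreservesFiniteLimits F] [PreservesFiniteColimits F] [PreservesFiniteLimits G] [PreservesFiniteColimits G]
  [PreservesFiniteLimits R] [PreservesFiniteColimits R]

/-- Derived functors of commuting exact functors commute. -/
noncomputable def derivedSquare (e : F ⋙ R ≅ R ⋙ G) :
    F.mapDerivedCategory ⋙ R.mapDerivedCategory ≅ R.mapDerivedCategory ⋙ G.mapDerivedCategory :=
  letI : Localization.Lifting DerivedCategory.Q (HomologicalComplex.quasiIso A (ComplexShape.up ℤ))
      (F.mapHomologicalComplex _ ⋙ R.mapHomologicalComplex _ ⋙ DerivedCategory.Q)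
      (F.mapDerivedCategory ⋙ R.mapDerivedCategory) :=
    ⟨(Functor.associator _ _ _).symm ≪≫ Functor.isoWhiskerRight F.mapDerivedCategoryFactors _ ≪≫
      Functor.associator _ _ _ ≪≫ Functor.isoWhiskerLeft _ R.mapDerivedCategoryFactors⟩
  letI : Localization.Lifting DerivedCategory.Q (HomologicalComplex.quasiIso A (ComplexShape.up ℤ))
      (R.mapHomologicalComplex _ ⋙ G.mapHomologicalComplex _ ⋙ DerivedCategory.Q)
      (R.mapDerivedCategory ⋙ G.mapDerivedCategory) :=
    ⟨(Functor.associator _ _ _).symm ≪≫ Functor.isoWhiskerRight R.mapDerivedCategoryFactors _ ≪≫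
      Functor.associator _ _ _ ≪≫ Functor.isoWhiskerLeft _ G.mapDerivedCategoryFactors⟩
  Localization.liftNatIso DerivedCategory.Q (HomologicalComplex.quasiIso A (ComplexShape.up ℤ))
    (F.mapHomologicalComplex (ComplexShape.up ℤ) ⋙ R.mapHomologicalComplex _ ⋙ DerivedCategory.Q)
    (R.mapHomologicalComplex (ComplexShape.up ℤ) ⋙ G.mapHomologicalComplex _ ⋙ DerivedCategory.Q) _ _
    ((Functor.associator _ _ _).symm ≪≫ Functor.isoWhiskerRight (NatIso.ofComponents
      (fun K => HomologicalComplex.Hom.isoOfComponents (fun i => e.app (K.X i))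
        fun i j _ => (e.hom.naturality (K.d i j)).symm) fun {K L} φ => by
        ext i; exact e.hom.naturality (φ.f i)) _ ≪≫ Functor.associator _ _ _)

end Square

variable {X Y : Scheme.{u}} (σ : X ⟶ Y) [IsIso σ]

theorem nonempty_twD_resD (L : Y.Modules) (L' : X.Modules) (e : L.restrict σ ≅ L')
    [PreservesFiniteLimits (DCoh.tensorRightMod L)] [PreservesFiniteLimits (DCoh.tensorRightMod L')] :
    Nonempty (PnKoszul9.twD L ⋙ DPerf.resD σ ≅ DPerf.resD σ ⋙ PnKoszul9.twD L') := by
  let R := Scheme.Modules.restrictFunctor σ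
  let nat : DCoh.tensorRightMod L ⋙ R ≅ R ⋙ DCoh.tensorRightMod L' :=
    Functor.isoWhiskerRight (KFlat.Sch.tensorRightModIso L).symm _ ≪≫ CohMop.isoTenIso σ L ≪≫
      Functor.isoWhiskerLeft _ ((KFlat.Sch.TX X).flip.mapIso e ≪≫ KFlat.Sch.tensorRightModIso L')
  exact ⟨derivedSquare _ _ _ nat⟩

theorem cohbP_resD {K : DCoh.D Y} (h : SGA6.cohbP Y K) : SGA6.cohbP X ((DPerf.resD σ).obj K) := by
  obtain ⟨hc, a, b, ha, hb⟩ := h
  refine ⟨fun i => CohFound.isCoh_of_iso (DPerf.hdResIso σ K i).symm (DPerf.isCoh_restrict (hc i) σ), a, b,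
    (DerivedCategory.isGE_iff _ _).2 fun i hi => ?_, (DerivedCategory.isLE_iff _ _).2 fun i hi => ?_⟩
  · exact ((Scheme.Modules.restrictFunctor σ).map_isZero ((DerivedCategory.isGE_iff _ _).1 ha i hi)).of_iso
      (DPerf.hdResIso σ K i)
  · exact ((Scheme.Modules.restrictFunctor σ).map_isZero ((DerivedCategory.isLE_iff _ _).1 hb i hi)).of_iso
      (DPerf.hdResIso σ K i)

theorem cohbP_iso {K L : DCoh.D Y} (e : K ≅ L) (h : SGA6.cohbP Y K) : SGA6.cohbP Y L := by
  obtain ⟨hc, a, b, ha, hb⟩ := h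
  haveI := ha
  haveI := hb
  exact ⟨fun i => CohFound.isCoh_of_iso ((DerivedCategory.homologyFunctor Y.Modules i).mapIso e) (hc i), a, b,
    DerivedCategory.TStructure.t.isGE_of_iso e a, DerivedCategory.TStructure.t.isLE_of_iso e b⟩

theorem cohbP_resD_iff {K : DCoh.D Y} : SGA6.cohbP X ((DPerf.resD σ).obj K) ↔ SGA6.cohbP Y K := by
  refine ⟨fun h => ?_, cohbP_resD σ⟩
  exact cohbP_iso ((DGen9.resEquiv (asIso σ)).unitIso.app K).symm (cohbP_resD (inv σ) h)

section Hom

variable {k : Type u} [CommRing k] [X.Over (Spec (CommRingCat.of k))] [Y.Over (Spec (CommRingCat.of k))]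
  [σ.IsOver (Spec (CommRingCat.of k))]

theorem nonempty_hom_equiv (M : DCoh.D Y) (M' : DCoh.D X) (e : (DPerf.resD σ).obj M ≅ M') (i : ℤ) :
    Nonempty ((DCoh.inD Y (Coh.structureModule Y) ⟶ M⟦i⟧) ≃ₗ[k] (DCoh.inD X (Coh.structureModule X) ⟶ M'⟦i⟧)) := by
  haveI : (DPerf.resD σ).Full := inferInstanceAs ((DGen9.resEquiv (asIso σ)).functor.Full)
  haveI : (DPerf.resD σ).Faithful := inferInstanceAs ((DGen9.resEquiv (asIso σ)).functor.Faithful)
  haveI : (DPerf.resD σ).Linear k := { map_smul := fun f r => DKill9.resD_map_smul k σ f r }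
  let eO : (DPerf.resD σ).obj (DCoh.inD Y (Coh.structureModule Y)) ≅ DCoh.inD X (Coh.structureModule X) :=
    ((Scheme.Modules.restrictFunctor σ).mapDerivedCategorySingleFunctor 0).app _ ≪≫
      (DerivedCategory.singleFunctor X.Modules 0).mapIso (Scheme.Modules.restrictUnitIso σ)
  exact ⟨(LinearEquiv.ofBijective ((DPerf.resD σ).mapLinearMap k)
    ((Functor.FullyFaithful.ofFullyFaithful (DPerf.resD σ)).map_bijective _ _)).trans
      (Linear.homCongr k eO (((DPerf.resD σ).commShiftIso i).app M ≪≫ (shiftFunctor _ i).mapIso e))⟩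

end Hom

/-- `P^n_k` in both presentations. -/
theorem isIso_pj_id (n : ℕ) (k : Type u) [CommRing k] : IsIso (PicPn.pj n (𝟙 (Spec (CommRingCat.of k)))) :=
  (PicPn.isPullback_pj n (𝟙 (Spec (CommRingCat.of k)))).isIso_fst_of_isIso

end Groth.Agent.DbCohPn9
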