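import Groth.Agent.Lib.PnKoszul9.Bound

/-! Vanishing far below against twists bounds cohomology below on projective space. -/

set_option autoImplicit false
set_option linter.style.haveILetI false
set_option linter.unusedSectionVars false
set_option backward.isDefEq.respectTransparency false
set_option backward.isDefEq.respectTransparency.types false

universe u

open CategoryTheory CategoryTheory.Limits AlgebraicGeometry CategoryTheory.Pretriangulated Filter

attribute [local instance] HasDerivedCategory.standard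

namespace Groth.Agent.DbCohPn9

open PnKoszul9

section General

variable {A : Type (u+1)} [Category.{u} A] [Abelian A] (C : DerivedCategory A)

/-- Maps from `E⟦-t⟧` to `C` vanish for `t` very negative. -/
def Blw (E : DerivedCategory A) : Prop := ∀ᶠ t : ℤ in atBot, ∀ φ : E⟦-t⟧ ⟶ C, φ = 0

variable {C}

theorem blw_iso {E E' : DerivedCategory A} (e : E ≅ E') (h : Blw C E) : Blw C E' := h.mono fun t ht φ => by
  rw [← cancel_epi ((shiftFunctor _ (-t)).map e.hom), comp_zero]
  exact ht _

theorem blw_isZero {E : DerivedCategory A} (h : IsZero E) : Blw C E :=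
  Eventually.of_forall fun t _ => ((shiftFunctor _ (-t)).map_isZero h).eq_of_src _ _

theorem blw_shift {E : DerivedCategory A} (h : Blw C E) (k : ℤ) : Blw C (E⟦k⟧) := by
  obtain ⟨a, ha⟩ := eventually_atBot.1 h
  refine eventually_atBot.2 ⟨a + k, fun t ht φ => ?_⟩
  rw [← cancel_epi ((shiftFunctorAdd' (DerivedCategory A) k (-t) (-(t - k)) (by omega)).app E).hom, comp_zero]
  exact ha (t - k) (by omega) _

theorem blw₂ (T : Triangle (DerivedCategory A)) (hT : T ∈ distTriang _) (h₁ : Blw C T.obj₁) (h₃ : Blw C T.obj₃) :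
    Blw C T.obj₂ := (Filter.Eventually.and h₁ h₃).mono fun t ht φ => by
  obtain ⟨g, hg⟩ := Triangle.yoneda_exact₂ _ (Triangle.shift_distinguished T hT (-t)) φ (ht.1 _)
  rw [hg, show g = 0 from ht.2 g, comp_zero]

theorem blw_retract {E E' : DerivedCategory A} (i : E ⟶ E') (p : E' ⟶ E) (hip : i ≫ p = 𝟙 E)
    (h : Blw C E') : Blw C E := h.mono fun t ht φ => by
  rw [show φ = (shiftFunctor _ (-t)).map i ≫ ((shiftFunctor _ (-t)).map p ≫ φ) by
    rw [← Category.assoc, ← Functor.map_comp, hip, CategoryTheory.Functor.map_id, Category.id_comp],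
    show (shiftFunctor _ (-t)).map p ≫ φ = 0 from ht _, comp_zero]

theorem blw_single {X : A} (h : Blw C ((DerivedCategory.singleFunctor A 0).obj X)) (a : ℤ) :
    Blw C ((DerivedCategory.singleFunctor A a).obj X) :=
  blw_iso (((DerivedCategory.singleFunctors A).shiftIso (-a) a 0 (by omega)).app X) (blw_shift h (-a))

theorem blw_biproduct {ι : Type} [Fintype ι] (f : ι → A) [HasBiproduct f]
    (h : ∀ i, Blw C ((DerivedCategory.singleFunctor A 0).obj (f i))) :
    Blw C ((DerivedCategory.singleFunctor A 0).obj (⨁ f)) := (eventually_all.2 h).mono fun t ht φ => by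
  let F := DerivedCategory.singleFunctor A 0 ⋙ shiftFunctor (DerivedCategory A) (-t)
  haveI : F.Additive := inferInstance
  have h1 : F.map (∑ i, biproduct.π f i ≫ biproduct.ι f i) ≫ φ = φ := by
    rw [show (∑ i, biproduct.π f i ≫ biproduct.ι f i) = 𝟙 (⨁ f) by
      classical
      refine biproduct.hom_ext' _ _ fun j => ?_
      rw [Preadditive.comp_sum, Category.comp_id]
      rw [Finset.sum_eq_single j (fun b _ hb => by rw [biproduct.ι_π_ne_assoc f hb.symm, zero_comp])
        (fun hj => absurd (Finset.mem_univ j) hj), biproduct.ι_π_self_assoc], F.map_id]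
    exact Category.id_comp φ
  rw [← h1, F.map_sum, Preadditive.sum_comp]
  refine Finset.sum_eq_zero fun i _ => ?_
  rw [F.map_comp, Category.assoc, show F.map (biproduct.ι f i) ≫ φ = 0 from ht i _, comp_zero]

variable [HasColimitsOfSize.{0, 0} A]

theorem blw_of_bounded (L : CochainComplex A ℤ) (lo hi : ℤ) [L.IsStrictlyGE lo] [L.IsStrictlyLE hi]
    (h : ∀ i, Blw C ((DerivedCategory.singleFunctor A 0).obj (L.X i))) : Blw C (DerivedCategory.Q.obj L) := by
  haveI : L.IsStrictlyGE (hi + 1 - ((hi + 1 - lo).toNat : ℤ)) := L.isStrictlyGE_of_ge _ lo (by omega)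
  refine RHom.bounded_induction (fun L => Blw C (DerivedCategory.Q.obj L))
    (fun L hL => blw_isZero (DerivedCategory.Q.map_isZero hL)) (fun S hS h₁ h₃ => ?_)
    (fun X => Blw C ((DerivedCategory.singleFunctor A 0).obj X))
    (fun X hX => blw_isZero ((DerivedCategory.singleFunctor A 0).map_isZero hX))
    (fun e h => blw_iso ((DerivedCategory.singleFunctor A 0).mapIso e) h)
    (fun a X h => blw_iso ((DerivedCategory.singleFunctorIsoCompQ A a).app X) (blw_single h a))
    hi (hi + 1 - lo).toNat L h
  have hS' : S.ShortExact := HomologicalComplex.shortExact_of_degreewise_shortExact _ fun i => (hS i).some.shortExact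
  exact blw₂ _ (DerivedCategory.triangleOfSES_distinguished hS') h₁ h₃

theorem blw_lowest (L : CochainComplex A ℤ) (lo hi : ℤ) [L.IsStrictlyGE lo] [L.IsStrictlyLE hi]
    (hL : IsZero (DerivedCategory.Q.obj L))
    (h : ∀ i, lo < i → Blw C ((DerivedCategory.singleFunctor A 0).obj (L.X i))) :
    Blw C ((DerivedCategory.singleFunctor A 0).obj (L.X lo)) := by
  obtain ⟨π, w, hS⟩ := exists_lowest L lo
  haveI := KFlat.brutGE_isStrictlyLE L (lo + 1) hi
  have h1 : Blw C (DerivedCategory.Q.obj (KFlat.brutGE L (lo + 1))) := blw_of_bounded _ (lo + 1) hi fun i => by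
    by_cases hi' : lo + 1 ≤ i
    · exact blw_iso ((DerivedCategory.singleFunctor A 0).mapIso (KFlat.brutIso L hi').symm) (h i (by omega))
    · exact blw_isZero ((DerivedCategory.singleFunctor A 0).map_isZero (KFlat.brutGE_isZero L (by omega)))
  have hT := rot_of_distTriang _ (DerivedCategory.triangleOfSES_distinguished hS)
  have h3' : Blw C (DerivedCategory.triangleOfSES hS).obj₃ :=
    blw₂ _ hT (blw_isZero hL) (blw_shift h1 1)
  refine blw_iso (((DerivedCategory.singleFunctors A).shiftIso lo 0 lo (by omega)).app (L.X lo))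
    (blw_shift (blw_iso ((DerivedCategory.singleFunctorIsoCompQ A lo).app (L.X lo)).symm h3') lo)

end General

variable {n : ℕ} {R : Type u} [CommRing R] {C : DCoh.D (CohB1.ProjSpace n R)}

/-- All negative twists. -/
theorem blw_tw_neg (h : ∀ d : ℕ, d ≤ n → Blw C (tw n R (-(d : ℤ)))) : ∀ e : ℕ, Blw C (tw n R (-(e : ℤ))) := by
  intro e
  induction e using Nat.strong_induction_on with
  | _ e ih =>
    by_cases he : e ≤ n
    · exact h e he
    let L := koszul n R (-(e : ℤ))
    haveI : L.IsStrictlyGE 0 :=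
      (CochainComplex.isStrictlyGE_iff _ _).2 fun i hi => isZero_koszul_X n R _ i (Or.inl hi)
    haveI : L.IsStrictlyLE ((n : ℤ) + 1) :=
      (CochainComplex.isStrictlyLE_iff _ _).2 fun i hi => isZero_koszul_X n R _ i (Or.inr hi)
    have h0 : Blw C ((DerivedCategory.singleFunctor _ 0).obj (L.X 0)) :=
      blw_lowest L 0 ((n : ℤ) + 1) (isZero_koszul_Q _) fun i hi => by
        by_cases hi' : (n : ℤ) + 1 < i
        · exact blw_isZero ((DerivedCategory.singleFunctor _ 0).map_isZero (isZero_koszul_X n R _ i (Or.inr hi')))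
        · refine blw_biproduct (fun _ : Idx (n + 1) i => _root_.Twist.twistProjSpace n R (-(e : ℤ) + i)) fun _ => ?_
          have := ih (e - i.toNat) (by omega)
          rwa [show (-((e - i.toNat : ℕ) : ℤ)) = -(e : ℤ) + i by omega] at this
    let S' : Idx (n + 1) (0 : ℤ) := ⟨∅, rfl⟩
    let f := fun _ : Idx (n + 1) (0 : ℤ) => _root_.Twist.twistProjSpace n R (-(e : ℤ) + 0)
    have h1 : Blw C ((DerivedCategory.singleFunctor _ 0).obj (f S')) :=
      blw_retract ((DerivedCategory.singleFunctor _ 0).map (biproduct.ι f S'))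
        ((DerivedCategory.singleFunctor _ 0).map (biproduct.π f S'))
        (by rw [← Functor.map_comp, biproduct.ι_π_self, CategoryTheory.Functor.map_id]) h0
    simpa [f] using h1

/-- Cohomology vanishes far below. -/
theorem exists_isGE (hC : DCoh.IsQCohD C) (h : ∀ d : ℕ, d ≤ n → Blw C (tw n R (-(d : ℤ)))) :
    ∃ a : ℤ, C.IsGE a := by
  have hev : ∀ P : DCoh.D (CohB1.ProjSpace n R), DCoh.IsPerfect P → DGen9.EvOrth atBot P C := fun P hP => by
    obtain ⟨L, c, b, s, r, hc, hb, hsr, hterm⟩ := exists_bounded_retract hP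
    haveI := hc
    haveI := hb
    refine blw_retract s r hsr (blw_of_bounded L c b fun j => ?_)
    obtain ⟨k, N, hN, ⟨eN⟩⟩ := hterm j
    refine blw_iso ((DerivedCategory.singleFunctor _ 0).mapIso eN.symm) (blw_biproduct _ fun l => ?_)
    have := blw_tw_neg h (-(N l)).toNat
    rwa [show (-((-(N l)).toNat : ℕ) : ℤ) = N l by have := hN l; omega] at this
  haveI := (isAmpleFamily_twist_one (n := n) (R := R)).1
  haveI := (isAmpleFamily_twist_one (n := n) (R := R)).2.1
  obtain ⟨a, ha⟩ := eventually_atBot.1 (DGen9.hasBd DGen9.niceDir_atBot _ _ hC hev)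
  exact ⟨a + 1, (DerivedCategory.isGE_iff _ _).2 fun i hi => ha i (by omega)⟩

end Groth.Agent.DbCohPn9
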